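import Cfsg.Agent.Chev.Borel
import Cfsg.Agent.Chev.Torus
import Cfsg.Agent.Chev.Full
import Cfsg.Agent.Chev.Order

/-!
# Two generators for Chevalley groups: certificates

A subgroup containing a Coxeter representative and some full root subgroups contains all root
subgroups reached by the Coxeter element and by commutators with unit coefficient.
-/

set_option autoImplicit false

open Cfsg.Lie

namespace Cfsg.Lib.ChevTwoGen

open Cfsg.Lib.Chev

/-- The image of a root under the product of all fundamental reflections. -/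
noncomputable def cx (C : Cert) (l r : ℕ) : ℕ := C.wWord (List.range l) r

/-- Membership in a list of indices. -/
noncomputable def has (K : List ℕ) (r : ℕ) : Bool := !kall (fun x => !Nat.beq x r) K

/-- The commutator word of `(r, s)` has exactly one term of root `t`, with unit coefficient and
degree one in the first parameter, and its other terms are known. -/
noncomputable def okTerms (D : ChevalleyDatum) (K : List ℕ) (r s t : ℕ) : Bool :=
  (match (D.commTerms r s).filter (fun q => Nat.beq q.1 t) with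
   | [q] => Nat.beq q.2.1.natAbs 1 && Nat.beq q.2.2.1 1
   | _ => false) &&
  kall (fun q => Nat.beq q.1 t || has K q.1) (D.commTerms r s)

/-- Two distinct non-opposite roots with empty commutator word. -/
noncomputable def okComm (D : ChevalleyDatum) (r s : ℕ) : Bool :=
  Nat.blt r D.nroots && Nat.blt s D.nroots && !Nat.beq s r && !Nat.beq s (D.neg r) &&
  match D.commTerms r s with
  | [] => true
  | _ => false

/-- One step: `(0, r, _, t)` applies the Coxeter element to `r`; `(1, r, s, t)` commutes two known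
root subgroups; `(2, x, r, t)` conjugates `r` by the order-three element of the node `g`. -/
noncomputable def okStep (D : ChevalleyDatum) (C : Cert) (g : ℕ) (three : Bool) (K : List ℕ)
    (a : ℕ × ℕ × ℕ × ℕ) : Bool :=
  Nat.blt a.2.1 D.nroots && Nat.blt a.2.2.1 D.nroots &&
  ((Nat.beq a.1 0 && has K a.2.1 && Nat.beq (cx C D.rank a.2.1) a.2.2.2) ||
   (Nat.beq a.1 1 && has K a.2.1 && has K a.2.2.1 && !Nat.beq a.2.2.1 a.2.1 &&
      !Nat.beq a.2.2.1 (D.neg a.2.1) && okTerms D K a.2.1 a.2.2.1 a.2.2.2) ||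
   (three && Nat.beq a.1 2 && Nat.blt g D.rank && has K a.2.2.1 && !Nat.beq a.2.2.1 a.2.1 &&
      !Nat.beq a.2.2.1 (D.neg a.2.1) && okTerms D K a.2.1 a.2.2.1 a.2.2.2 &&
      ((Nat.beq a.2.1 (D.simple g) && okComm D (D.neg (D.simple g)) a.2.2.1) ||
       (Nat.beq a.2.1 (D.neg (D.simple g)) && okComm D (D.simple g) a.2.2.1))))

/-- All steps succeed and reach every root. -/
noncomputable def okSteps (D : ChevalleyDatum) (C : Cert) (g : ℕ) (three : Bool)
    (L : List (ℕ × ℕ × ℕ × ℕ)) : List ℕ → Bool :=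
  @List.rec _ (fun _ => List ℕ → Bool) (fun K => kall (has K) (krange 0 D.nroots))
    (fun a _ ih K => okStep D C g three K a && ih (a.2.2.2 :: K)) L

theorem has_iff (K : List ℕ) (r : ℕ) : has K r = true ↔ r ∈ K := by
  rw [has, Bool.not_eq_true', ← Bool.not_eq_true, kall_iff]
  constructor
  · intro h
    by_contra hr
    exact h fun x hx => Bool.not_eq_true' .. |>.mpr (Bool.eq_false_iff.2 fun e => hr (Nat.eq_of_beq_eq_true e ▸ hx))
  · intro h hh
    simpa using hh r h

section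

variable {D : ChevalleyDatum} {C : Cert} {F : Type*} [Field F] (S : Struct D C)

/-- The representative of the Coxeter element. -/
noncomputable def cN (S : Struct D C) (F : Type*) [Field F] (L : List ℕ) : GL D.Idx F :=
  (L.map fun i => S.ok.nG (D.simple i) 1).prod

theorem cN_conj (L : List ℕ) (hL : ∀ i ∈ L, i < D.rank) {r : ℕ} (hr : r < D.nroots) :
    C.wWord L r < D.nroots ∧ ∃ η : F, η * η = 1 ∧
      ∀ u : F, cN S F L * S.ok.xG r u * (cN S F L)⁻¹ = S.ok.xG (C.wWord L r) (η * u) := by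
  induction L with
  | nil => exact ⟨hr, 1, mul_one 1, fun u => by simp [cN, Cert.wWord]⟩
  | cons i L ih =>
    obtain ⟨h1, η, h2, h3⟩ := ih fun j hj => hL j (List.mem_cons_of_mem _ hj)
    have hi := hL i (List.mem_cons_self ..)
    have e : C.wWord (i :: L) r = C.w i (C.wWord L r) := rfl
    refine ⟨e ▸ S.ok.w_lt hi h1, (C.eta i (C.wWord L r) : F) * η, ?_, fun u => ?_⟩
    · rw [mul_mul_mul_comm, h2, Ok.eta_sq, one_mul]
    · have : cN S F (i :: L) = S.ok.nG (D.simple i) 1 * cN S F L := by simp [cN]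
      rw [this, mul_inv_rev, show S.ok.nG (D.simple i) (1 : F) * cN S F L * S.ok.xG r u *
        ((cN S F L)⁻¹ * (S.ok.nG (D.simple i) (1 : F))⁻¹) = S.ok.nG (D.simple i) (1 : F) *
          (cN S F L * S.ok.xG r u * (cN S F L)⁻¹) * (S.ok.nG (D.simple i) (1 : F))⁻¹ by group,
        h3, S.ok.conj_nG_xG hi h1, e, mul_assoc]

theorem cN_mem_monomial (L : List ℕ) (hL : ∀ i ∈ L, i < D.rank) :
    cN S F L ∈ D.monomialSubgroup F := by
  refine list_prod_mem fun g hg => ?_
  obtain ⟨i, hi, rfl⟩ := List.mem_map.1 hg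
  exact S.nG_mem_mono ⟨i, hL i hi⟩

theorem cx_conj {r : ℕ} (hr : r < D.nroots) :
    cx C D.rank r < D.nroots ∧ ∃ η : F, η * η = 1 ∧ ∀ u : F,
      cN S F (List.range D.rank) * S.ok.xG r u * (cN S F (List.range D.rank))⁻¹ =
        S.ok.xG (cx C D.rank r) (η * u) :=
  cN_conj S _ (fun _ h => List.mem_range.1 h) hr

/-- `X` contains the whole root subgroup of `r`. -/
def Full (X : Subgroup (GL D.Idx F)) (r : ℕ) : Prop := ∀ t : F, S.ok.xG r t ∈ X

variable {S} {X : Subgroup (GL D.Idx F)}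

theorem full_cx (hn : cN S F (List.range D.rank) ∈ X) {r : ℕ} (hr : r < D.nroots) (h : Full S X r) :
    Full S X (cx C D.rank r) := by
  obtain ⟨-, η, hη, e⟩ := cx_conj (F := F) S hr
  intro t
  have := mul_mem (mul_mem hn (h (η * t))) (inv_mem hn)
  rwa [e, ← mul_assoc, hη, one_mul] at this

theorem comm_of_okComm {r s : ℕ} (h : okComm D r s = true) (t u : F) :
    Commute (S.ok.xG r t) (S.ok.xG s u) := by
  simp only [okComm, Bool.and_eq_true, Bool.not_eq_true', blt_true] at h
  obtain ⟨⟨⟨⟨h1, h2⟩, h3⟩, h4⟩, h5⟩ := h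
  have e := S.ok.commRel S.chain S.base h1 h2 (Nat.ne_of_beq_eq_false h3) (Nat.ne_of_beq_eq_false h4) t u
  have h6 : D.commTerms r s = [] := by
    split at h5
    · assumption
    · exact absurd h5 Bool.false_ne_true
  rw [Ok.wG, ChevalleyDatum.commWord, h6] at e
  simp only [List.map_nil, List.prod_nil, mul_one] at e
  exact e.symm

theorem okTerms_full {K : List ℕ} {r s t : ℕ} (hK : ∀ x ∈ K, Full S X x)
    (h : okTerms D K r s t = true) {a b : F}
    (hW : S.ok.wG (D.commWord F r s a b) ∈ X) :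
    ∃ (c : F) (j : ℕ), (c = 1 ∨ c = -1) ∧ S.ok.xG t (c * -a * b ^ j) ∈ X := by
  simp only [okTerms, Bool.and_eq_true, kall_iff, Bool.or_eq_true] at h
  obtain ⟨h1, h2⟩ := h
  split at h1
  case h_2 => exact absurd h1 Bool.false_ne_true
  rename_i q hq
  rw [Bool.and_eq_true] at h1
  obtain ⟨hc, hi⟩ := h1
  have hqm : q ∈ (D.commTerms r s).filter (fun q => Nat.beq q.1 t) := hq ▸ List.mem_singleton_self q
  rw [List.mem_filter] at hqm
  obtain ⟨pre, post, hpp⟩ := List.append_of_mem hqm.1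
  have hqt : q.1 = t := Nat.eq_of_beq_eq_true hqm.2
  rw [hpp, List.filter_append, List.filter_cons_of_pos (by simpa using hqt)] at hq
  have hlen := congrArg List.length hq
  simp only [List.length_append, List.length_cons, List.length_nil] at hlen
  have hz : (pre.filter (fun q => Nat.beq q.1 t)).length = 0 ∧
      (post.filter (fun q => Nat.beq q.1 t)).length = 0 := by omega
  have hside : ∀ L : List (ℕ × ℤ × ℕ × ℕ), (L.filter (fun q => Nat.beq q.1 t)).length = 0 →
      (∀ p ∈ L, p ∈ D.commTerms r s) →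
      S.ok.wG (L.map fun c => (c.1, (c.2.1 : F) * (-a) ^ c.2.2.1 * b ^ c.2.2.2)) ∈ X := by
    intro L hL hsub
    refine list_prod_mem fun g hg => ?_
    simp only [List.map_map, List.mem_map] at hg
    obtain ⟨p, hp, rfl⟩ := hg
    rcases h2 p (hsub p hp) with e | e
    · exact absurd (List.eq_nil_of_length_eq_zero hL) (List.ne_nil_of_mem (List.mem_filter.2 ⟨hp, e⟩))
    · exact hK _ ((has_iff _ _).1 e) _
  have h3 : S.ok.wG (pre.map fun c => (c.1, (c.2.1 : F) * (-a) ^ c.2.2.1 * b ^ c.2.2.2)) ∈ X :=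
    hside pre hz.1 fun p hp => hpp ▸ List.mem_append_left _ hp
  have h4 : S.ok.wG (post.map fun c => (c.1, (c.2.1 : F) * (-a) ^ c.2.2.1 * b ^ c.2.2.2)) ∈ X :=
    hside post hz.2 fun p hp => hpp ▸ List.mem_append_right _ (List.mem_cons_of_mem _ hp)
  simp only [Ok.wG, ChevalleyDatum.commWord, hpp, List.map_append, List.map_cons, List.prod_append,
    List.prod_cons] at hW
  simp only [Ok.wG] at h3 h4
  rw [mul_mem_cancel_left h3, mul_mem_cancel_right h4, hqt, Nat.eq_of_beq_eq_true hi, pow_one] at hW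
  refine ⟨(q.2.1 : F), q.2.2.2, ?_, hW⟩
  rcases Int.natAbs_eq q.2.1 with e | e <;> rw [e, Nat.eq_of_beq_eq_true hc] <;> simp

theorem full_of_terms {K : List ℕ} {r s t : ℕ} (hK : ∀ x ∈ K, Full S X x)
    (h : okTerms D K r s t = true) (hr : r < D.nroots) (hs : s < D.nroots) (h1 : s ≠ r)
    (h2 : s ≠ D.neg r) (hrX : Full S X r) (hsX : Full S X s) : Full S X t := by
  intro u
  have hW : ∀ a : F, S.ok.wG (D.commWord F r s a 1) ∈ X := fun a => by
    have e := S.ok.commRel S.chain S.base hr hs h1 h2 a (1 : F)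
    exact (mul_mem_cancel_left (mul_mem (hrX a) (hsX 1))).1 (e ▸ mul_mem (hsX 1) (hrX a))
  obtain ⟨c, j, hc, hm⟩ := okTerms_full hK h (hW 1)
  obtain ⟨c', j', hc', hm'⟩ := okTerms_full hK h (hW (-u))
  obtain ⟨c'', j'', hc'', hm''⟩ := okTerms_full hK h (hW u)
  rw [one_pow, mul_one] at hm' hm''
  rcases hc' with rfl | rfl
  · simpa using hm'
  · rcases hc'' with rfl | rfl
    · have := inv_mem hm''
      rw [S.ok.xG_inv] at this
      simpa using this
    · simpa using hm''

theorem full_of_three {K : List ℕ} {r s t : ℕ} (hK : ∀ x ∈ K, Full S X x)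
    (h : okTerms D K r s t = true) (hr : r < D.nroots) (hs : s < D.nroots) (h1 : s ≠ r)
    (h2 : s ≠ D.neg r) (htwo : ∀ u : F, u = 0 ∨ u = 1) (hsX : Full S X s)
    (hy : S.ok.xG r 1 * S.ok.xG s (1 : F) * (S.ok.xG r 1)⁻¹ ∈ X) : Full S X t := by
  have hm1 : (-1 : F) = 1 := (htwo (-1)).resolve_left (by simp)
  have e := S.ok.commRel S.chain S.base hr hs h1 h2 (1 : F) (1 : F)
  have hW : S.ok.wG (D.commWord F r s 1 1) ∈ X := by
    have hy' : (S.ok.xG r (1 : F))⁻¹ * S.ok.xG s 1 * S.ok.xG r 1 ∈ X := by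
      rw [S.ok.xG_inv, hm1]
      rwa [S.ok.xG_inv, hm1] at hy
    rw [mul_assoc, e, mul_assoc (S.ok.xG r 1), inv_mul_cancel_left] at hy'
    exact (mul_mem_cancel_left (hsX 1)).1 hy'
  obtain ⟨c, j, hc, hm⟩ := okTerms_full hK h hW
  intro u
  rcases htwo u with rfl | rfl
  · rw [S.ok.xG_zero]; exact one_mem X
  · rcases hc with rfl | rfl <;> simpa [hm1] using hm

theorem okSteps_sound (hn : cN S F (List.range D.rank) ∈ X) (g : ℕ) (three : Bool)
    (hy : three = true → (∀ u : F, u = 0 ∨ u = 1) ∧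
      S.ok.xG (D.simple g) 1 * S.ok.xG (D.neg (D.simple g)) (1 : F) ∈ X) :
    ∀ (L : List (ℕ × ℕ × ℕ × ℕ)) (K : List ℕ), (∀ x ∈ K, Full S X x) →
      okSteps D C g three L K = true → D.group F ≤ X := by
  intro L
  induction L with
  | nil =>
    intro K hK h
    refine (Subgroup.closure_le _).2 ?_
    rintro g ⟨r, t, hg⟩
    have hx : (g : Matrix D.Idx D.Idx F) = D.x F r.val t := by
      rw [hg]; simp [ChevalleyDatum.x, r.isLt]
    rw [S.ok.eq_xG hx]
    exact hK _ ((has_iff _ _).1 (kall_krange h r.val r.isLt)) t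
  | cons a L ih =>
    intro K hK h
    change (okStep D C g three K a && okSteps D C g three L (a.2.2.2 :: K)) = true at h
    rw [Bool.and_eq_true] at h
    refine ih _ (List.forall_mem_cons.2 ⟨?_, hK⟩) h.2
    have h1 := h.1
    simp only [okStep, Bool.and_eq_true, Bool.or_eq_true, Bool.not_eq_true', blt_true] at h1
    obtain ⟨⟨hr, hs⟩, h1⟩ := h1
    rcases h1 with (⟨⟨-, hk⟩, ht⟩ | ⟨⟨⟨⟨⟨-, hk1⟩, hk2⟩, hne⟩, hng⟩, ht⟩) |
      ⟨⟨⟨⟨⟨⟨⟨hth, -⟩, hg⟩, hk2⟩, hne⟩, hng⟩, ht⟩, hc⟩
    · rw [← Nat.eq_of_beq_eq_true ht]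
      exact full_cx hn hr (hK _ ((has_iff _ _).1 hk))
    · exact full_of_terms hK ht hr hs (Nat.ne_of_beq_eq_false hne) (Nat.ne_of_beq_eq_false hng)
        (hK _ ((has_iff _ _).1 hk1)) (hK _ ((has_iff _ _).1 hk2))
    · obtain ⟨htwo, hyX⟩ := hy hth
      have hsX := hK _ ((has_iff _ _).1 hk2)
      refine full_of_three hK ht hr hs (Nat.ne_of_beq_eq_false hne) (Nat.ne_of_beq_eq_false hng)
        htwo hsX ?_
      set p := S.ok.xG (D.simple g) (1 : F)
      set m := S.ok.xG (D.neg (D.simple g)) (1 : F)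
      have hm1 : (-1 : F) = 1 := (htwo (-1)).resolve_left (by simp)
      rcases hc with ⟨e, hcm⟩ | ⟨e, hcm⟩ <;> rw [Nat.eq_of_beq_eq_true e]
      · have hcomm : Commute m (S.ok.xG a.2.2.1 (1 : F)) := comm_of_okComm (S := S) hcm _ _
        have := mul_mem (mul_mem hyX (hsX 1)) (inv_mem hyX)
        rwa [mul_inv_rev, mul_assoc p m, hcomm.eq, ← mul_assoc p _ m, ← mul_assoc, mul_assoc (p * _) m,
          mul_inv_cancel, mul_one] at this
      · have hcomm : Commute p (S.ok.xG a.2.2.1 (1 : F)) := comm_of_okComm (S := S) hcm _ _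
        have := mul_mem (mul_mem (inv_mem hyX) (hsX 1)) hyX
        have hmi : m⁻¹ = m := by rw [S.ok.xG_inv, hm1]
        rw [mul_inv_rev, mul_assoc m⁻¹ p⁻¹, hcomm.inv_left.eq, ← mul_assoc m⁻¹, ← mul_assoc,
          mul_assoc (m⁻¹ * _) p⁻¹, inv_mul_cancel, mul_one, hmi] at this
        rwa [show m⁻¹ = m from hmi]

end

end Cfsg.Lib.ChevTwoGen
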