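import Cfsg.Agent.Known.ChevTwoGen.Main
import Cfsg.Agent.Chev.Types

/-! # Two generators for Chevalley groups: the step lists -/

set_option autoImplicit false

open Cfsg.Lie

namespace Cfsg.Lib.ChevTwoGen

open Cfsg.Lib.Chev

/-- Steps (big, G2). -/
def bigG2 : List (ℕ × ℕ × ℕ × ℕ) :=
  [(0, 1, 0, 0), (0, 0, 0, 5), (0, 5, 0, 10), (0, 10, 0, 11), (0, 11, 0, 6), (0, 3, 0, 7),
  (0, 7, 0, 9), (0, 9, 0, 8), (0, 8, 0, 4), (0, 4, 0, 2)]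

theorem bigG2_ok : okBig chevG2 G2.cert 1 1 2 1 bigG2 = true := by
  decide +kernel

/-- Steps (big, B2). -/
def bigB2 : List (ℕ × ℕ × ℕ × ℕ) :=
  [(0, 2, 0, 1), (0, 1, 0, 5), (0, 5, 0, 6), (0, 3, 0, 7), (0, 7, 0, 4), (0, 4, 0, 0)]

theorem bigB2_ok : okBig chevB2 B2.cert 1 2 0 1 bigB2 = true := by
  decide +kernel

/-- Steps (big, D4). -/
def bigD4 : List (ℕ × ℕ × ℕ × ℕ) :=
  [(0, 9, 0, 1), (0, 1, 0, 18), (0, 18, 0, 14), (0, 14, 0, 22), (0, 22, 0, 5), (0, 21, 0, 15),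
  (0, 15, 0, 13), (0, 13, 0, 2), (0, 2, 0, 8), (0, 8, 0, 10), (1, 9, 1, 0), (0, 0, 0, 6),
  (0, 6, 0, 19), (0, 19, 0, 23), (0, 23, 0, 17), (0, 17, 0, 4), (1, 9, 15, 12), (0, 12, 0, 3),
  (0, 3, 0, 7), (0, 7, 0, 11), (0, 11, 0, 20), (0, 20, 0, 16)]

theorem bigD4_ok : okBig chevD4 D4.cert 0 9 10 1 bigD4 = true := by
  decide +kernel

/-- Steps (big, F4). -/
def bigF4 : List (ℕ × ℕ × ℕ × ℕ) :=
  [(0, 2, 0, 1), (0, 1, 0, 0), (0, 0, 0, 15), (0, 15, 0, 21), (0, 21, 0, 41), (0, 41, 0, 45),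
  (0, 45, 0, 46), (0, 46, 0, 47), (0, 47, 0, 32), (0, 32, 0, 26), (0, 26, 0, 6), (0, 8, 0, 18),
  (0, 18, 0, 34), (0, 34, 0, 37), (0, 37, 0, 44), (0, 44, 0, 40), (0, 40, 0, 39), (0, 39, 0, 29),
  (0, 29, 0, 13), (0, 13, 0, 10), (0, 10, 0, 3), (0, 3, 0, 7), (1, 2, 41, 16), (0, 16, 0, 22),
  (0, 22, 0, 23), (0, 23, 0, 42), (0, 42, 0, 30), (0, 30, 0, 43), (0, 43, 0, 31), (0, 31, 0, 25),
  (0, 25, 0, 24), (0, 24, 0, 5), (0, 5, 0, 17), (0, 17, 0, 4), (1, 2, 37, 9), (0, 9, 0, 19),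
  (0, 19, 0, 11), (0, 11, 0, 33), (0, 33, 0, 27), (0, 27, 0, 35), (0, 35, 0, 38), (0, 38, 0, 28),
  (0, 28, 0, 36), (0, 36, 0, 14), (0, 14, 0, 20), (0, 20, 0, 12)]

theorem bigF4_ok : okBig chevF4 F4.cert 2 2 3 2 bigF4 = true := by
  decide +kernel

/-- Steps (big, E6). -/
def bigE6 : List (ℕ × ℕ × ℕ × ℕ) :=
  [(0, 18, 0, 5), (0, 5, 0, 26), (0, 26, 0, 57), (0, 57, 0, 50), (0, 50, 0, 64), (0, 64, 0, 69),
  (0, 69, 0, 54), (0, 54, 0, 40), (0, 40, 0, 38), (0, 38, 0, 9), (0, 9, 0, 3), (0, 16, 0, 30),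
  (0, 30, 0, 61), (0, 61, 0, 67), (0, 67, 0, 71), (0, 71, 0, 70), (0, 70, 0, 55), (0, 55, 0, 41),
  (0, 41, 0, 10), (0, 10, 0, 4), (0, 4, 0, 0), (0, 0, 0, 1), (1, 18, 50, 31), (0, 31, 0, 33),
  (0, 33, 0, 62), (0, 62, 0, 68), (0, 68, 0, 53), (0, 53, 0, 66), (0, 66, 0, 45), (0, 45, 0, 14),
  (0, 14, 0, 21), (0, 21, 0, 7), (0, 7, 0, 2), (0, 2, 0, 17), (1, 18, 64, 56), (0, 56, 0, 42),
  (0, 42, 0, 47), (0, 47, 0, 59), (0, 59, 0, 52), (0, 52, 0, 39), (0, 39, 0, 37), (0, 37, 0, 36),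
  (0, 36, 0, 8), (0, 8, 0, 28), (0, 28, 0, 23), (0, 23, 0, 11), (1, 18, 71, 63), (0, 63, 0, 43),
  (0, 43, 0, 48), (0, 48, 0, 60), (0, 60, 0, 15), (0, 15, 0, 29), (0, 29, 0, 24), (0, 24, 0, 12),
  (0, 12, 0, 19), (0, 19, 0, 32), (0, 32, 0, 34), (0, 34, 0, 35), (1, 18, 47, 27), (0, 27, 0, 22),
  (0, 22, 0, 46), (0, 46, 0, 58), (0, 58, 0, 51), (0, 51, 0, 65), (0, 65, 0, 44), (0, 44, 0, 49),
  (0, 49, 0, 25), (0, 25, 0, 13), (0, 13, 0, 20), (0, 20, 0, 6)]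

theorem bigE6_ok : okBig chevE6 E6.cert 0 18 0 2 bigE6 = true := by
  decide +kernel

/-- Steps (big, E7). -/
def bigE7 : List (ℕ × ℕ × ℕ × ℕ) :=
  [(0, 0, 0, 1), (0, 1, 0, 2), (0, 2, 0, 7), (0, 7, 0, 33), (0, 33, 0, 53), (0, 53, 0, 99),
  (0, 99, 0, 109), (0, 109, 0, 119), (0, 119, 0, 125), (0, 125, 0, 124), (0, 124, 0, 123), (0, 123, 0, 118),
  (0, 118, 0, 92), (0, 92, 0, 72), (0, 72, 0, 26), (0, 26, 0, 16), (0, 16, 0, 6), (0, 34, 0, 54),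
  (0, 54, 0, 57), (0, 57, 0, 100), (0, 100, 0, 110), (0, 110, 0, 120), (0, 120, 0, 115), (0, 115, 0, 122),
  (0, 122, 0, 117), (0, 117, 0, 91), (0, 91, 0, 71), (0, 71, 0, 68), (0, 68, 0, 25), (0, 25, 0, 15),
  (0, 15, 0, 5), (0, 5, 0, 10), (0, 10, 0, 3), (0, 3, 0, 8), (1, 0, 109, 17), (0, 17, 0, 48),
  (0, 48, 0, 94), (0, 94, 0, 83), (0, 83, 0, 103), (0, 103, 0, 112), (0, 112, 0, 121), (0, 121, 0, 116),
  (0, 116, 0, 90), (0, 90, 0, 108), (0, 108, 0, 77), (0, 77, 0, 31), (0, 31, 0, 42), (0, 42, 0, 22),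
  (0, 22, 0, 13), (0, 13, 0, 4), (0, 4, 0, 9), (0, 9, 0, 35), (1, 0, 119, 27), (0, 27, 0, 93),
  (0, 93, 0, 73), (0, 73, 0, 79), (0, 79, 0, 96), (0, 96, 0, 85), (0, 85, 0, 105), (0, 105, 0, 75),
  (0, 75, 0, 81), (0, 81, 0, 98), (0, 98, 0, 32), (0, 32, 0, 52), (0, 52, 0, 46), (0, 46, 0, 29),
  (0, 29, 0, 40), (0, 40, 0, 20), (0, 20, 0, 50), (0, 50, 0, 44), (1, 0, 110, 18), (0, 18, 0, 49),
  (0, 49, 0, 43), (0, 43, 0, 78), (0, 78, 0, 95), (0, 95, 0, 84), (0, 84, 0, 104), (0, 104, 0, 113),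
  (0, 113, 0, 88), (0, 88, 0, 107), (0, 107, 0, 76), (0, 76, 0, 82), (0, 82, 0, 47), (0, 47, 0, 30),
  (0, 30, 0, 41), (0, 41, 0, 21), (0, 21, 0, 12), (0, 12, 0, 37), (1, 0, 120, 28), (0, 28, 0, 39),
  (0, 39, 0, 56), (0, 56, 0, 59), (0, 59, 0, 61), (0, 61, 0, 62), (0, 62, 0, 102), (0, 102, 0, 74),
  (0, 74, 0, 80), (0, 80, 0, 97), (0, 97, 0, 86), (0, 86, 0, 69), (0, 69, 0, 66), (0, 66, 0, 64),
  (0, 64, 0, 63), (0, 63, 0, 23), (0, 23, 0, 51), (0, 51, 0, 45), (1, 0, 103, 11), (0, 11, 0, 36),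
  (0, 36, 0, 55), (0, 55, 0, 58), (0, 58, 0, 60), (0, 60, 0, 101), (0, 101, 0, 111), (0, 111, 0, 87),
  (0, 87, 0, 106), (0, 106, 0, 114), (0, 114, 0, 89), (0, 89, 0, 70), (0, 70, 0, 67), (0, 67, 0, 65),
  (0, 65, 0, 24), (0, 24, 0, 14), (0, 14, 0, 38), (0, 38, 0, 19)]

theorem bigE7_ok : okBig chevE7 E7.cert 0 0 3 2 bigE7 = true := by
  decide +kernel

/-- Steps (big, E8). -/
def bigE8 : List (ℕ × ℕ × ℕ × ℕ) :=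
  [(0, 20, 0, 6), (0, 6, 0, 7), (0, 7, 0, 14), (0, 14, 0, 8), (0, 8, 0, 16), (0, 16, 0, 22),
  (0, 22, 0, 37), (0, 37, 0, 79), (0, 79, 0, 106), (0, 106, 0, 110), (0, 110, 0, 170), (0, 170, 0, 185),
  (0, 185, 0, 205), (0, 205, 0, 227), (0, 227, 0, 219), (0, 219, 0, 233), (0, 233, 0, 232), (0, 232, 0, 225),
  (0, 225, 0, 231), (0, 231, 0, 223), (0, 223, 0, 217), (0, 217, 0, 202), (0, 202, 0, 160), (0, 160, 0, 133),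
  (0, 133, 0, 129), (0, 129, 0, 69), (0, 69, 0, 54), (0, 54, 0, 34), (0, 34, 0, 12), (0, 15, 0, 21),
  (0, 21, 0, 36), (0, 36, 0, 78), (0, 78, 0, 105), (0, 105, 0, 169), (0, 169, 0, 184), (0, 184, 0, 204),
  (0, 204, 0, 226), (0, 226, 0, 234), (0, 234, 0, 235), (0, 235, 0, 236), (0, 236, 0, 237), (0, 237, 0, 238),
  (0, 238, 0, 239), (0, 239, 0, 224), (0, 224, 0, 218), (0, 218, 0, 203), (0, 203, 0, 161), (0, 161, 0, 134),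
  (0, 134, 0, 70), (0, 70, 0, 55), (0, 55, 0, 35), (0, 35, 0, 13), (0, 13, 0, 5), (0, 5, 0, 4),
  (0, 4, 0, 3), (0, 3, 0, 2), (0, 2, 0, 1), (0, 1, 0, 0), (1, 20, 185, 82), (0, 82, 0, 57),
  (0, 57, 0, 100), (0, 100, 0, 93), (0, 93, 0, 141), (0, 141, 0, 164), (0, 164, 0, 148), (0, 148, 0, 175),
  (0, 175, 0, 189), (0, 189, 0, 208), (0, 208, 0, 195), (0, 195, 0, 211), (0, 211, 0, 197), (0, 197, 0, 212),
  (0, 212, 0, 198), (0, 198, 0, 157), (0, 157, 0, 182), (0, 182, 0, 139), (0, 139, 0, 146), (0, 146, 0, 98),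
  (0, 98, 0, 75), (0, 75, 0, 91), (0, 91, 0, 64), (0, 64, 0, 50), (0, 50, 0, 31), (0, 31, 0, 44),
  (0, 44, 0, 28), (0, 28, 0, 42), (0, 42, 0, 27), (0, 27, 0, 41), (1, 20, 205, 101), (0, 101, 0, 94),
  (0, 94, 0, 71), (0, 71, 0, 162), (0, 162, 0, 135), (0, 135, 0, 142), (0, 142, 0, 165), (0, 165, 0, 149),
  (0, 149, 0, 176), (0, 176, 0, 190), (0, 190, 0, 153), (0, 153, 0, 179), (0, 179, 0, 192), (0, 192, 0, 154),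
  (0, 154, 0, 180), (0, 180, 0, 138), (0, 138, 0, 145), (0, 145, 0, 168), (0, 168, 0, 77), (0, 77, 0, 104),
  (0, 104, 0, 97), (0, 97, 0, 74), (0, 74, 0, 90), (0, 90, 0, 63), (0, 63, 0, 49), (0, 49, 0, 86),
  (0, 86, 0, 60), (0, 60, 0, 47), (0, 47, 0, 85), (0, 85, 0, 59), (1, 20, 184, 80), (0, 80, 0, 56),
  (0, 56, 0, 99), (0, 99, 0, 163), (0, 163, 0, 147), (0, 147, 0, 174), (0, 174, 0, 188), (0, 188, 0, 207),
  (0, 207, 0, 228), (0, 228, 0, 220), (0, 220, 0, 214), (0, 214, 0, 230), (0, 230, 0, 222), (0, 222, 0, 216),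
  (0, 216, 0, 201), (0, 201, 0, 159), (0, 159, 0, 183), (0, 183, 0, 140), (0, 140, 0, 76), (0, 76, 0, 92),
  (0, 92, 0, 65), (0, 65, 0, 51), (0, 51, 0, 32), (0, 32, 0, 11), (0, 11, 0, 19), (0, 19, 0, 25),
  (0, 25, 0, 9), (0, 9, 0, 17), (0, 17, 0, 23), (0, 23, 0, 38), (1, 20, 234, 173), (0, 173, 0, 136),
  (0, 136, 0, 143), (0, 143, 0, 166), (0, 166, 0, 150), (0, 150, 0, 177), (0, 177, 0, 137), (0, 137, 0, 144),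
  (0, 144, 0, 167), (0, 167, 0, 151), (0, 151, 0, 130), (0, 130, 0, 126), (0, 126, 0, 123), (0, 123, 0, 121),
  (0, 121, 0, 120), (0, 120, 0, 66), (0, 66, 0, 103), (0, 103, 0, 96), (0, 96, 0, 73), (0, 73, 0, 89),
  (0, 89, 0, 62), (0, 62, 0, 102), (0, 102, 0, 95), (0, 95, 0, 72), (0, 72, 0, 88), (0, 88, 0, 109),
  (0, 109, 0, 113), (0, 113, 0, 116), (0, 116, 0, 118), (0, 118, 0, 119), (1, 20, 147, 39), (0, 39, 0, 26),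
  (0, 26, 0, 40), (0, 40, 0, 81), (0, 81, 0, 107), (0, 107, 0, 111), (0, 111, 0, 114), (0, 114, 0, 171),
  (0, 171, 0, 186), (0, 186, 0, 206), (0, 206, 0, 194), (0, 194, 0, 210), (0, 210, 0, 229), (0, 229, 0, 221),
  (0, 221, 0, 215), (0, 215, 0, 200), (0, 200, 0, 213), (0, 213, 0, 199), (0, 199, 0, 158), (0, 158, 0, 132),
  (0, 132, 0, 128), (0, 128, 0, 125), (0, 125, 0, 68), (0, 68, 0, 53), (0, 53, 0, 33), (0, 33, 0, 45),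
  (0, 45, 0, 29), (0, 29, 0, 10), (0, 10, 0, 18), (0, 18, 0, 24), (1, 20, 186, 83), (0, 83, 0, 58),
  (0, 58, 0, 46), (0, 46, 0, 84), (0, 84, 0, 108), (0, 108, 0, 112), (0, 112, 0, 115), (0, 115, 0, 117),
  (0, 117, 0, 172), (0, 172, 0, 187), (0, 187, 0, 152), (0, 152, 0, 178), (0, 178, 0, 191), (0, 191, 0, 209),
  (0, 209, 0, 196), (0, 196, 0, 156), (0, 156, 0, 181), (0, 181, 0, 193), (0, 193, 0, 155), (0, 155, 0, 131),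
  (0, 131, 0, 127), (0, 127, 0, 124), (0, 124, 0, 122), (0, 122, 0, 67), (0, 67, 0, 52), (0, 52, 0, 87),
  (0, 87, 0, 61), (0, 61, 0, 48), (0, 48, 0, 30), (0, 30, 0, 43)]

theorem bigE8_ok : okBig chevE8 E8.cert 0 20 0 1 bigE8 = true := by
  decide +kernel

/-- Steps (small, D4). -/
def smallD4 : List (ℕ × ℕ × ℕ × ℕ) :=
  [(0, 10, 0, 21), (0, 21, 0, 15), (0, 15, 0, 13), (0, 13, 0, 2), (0, 2, 0, 8), (1, 10, 21, 19),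
  (0, 19, 0, 23), (0, 23, 0, 17), (0, 17, 0, 4), (0, 4, 0, 0), (0, 0, 0, 6), (2, 5, 21, 16),
  (0, 16, 0, 12), (0, 12, 0, 3), (0, 3, 0, 7), (0, 7, 0, 11), (0, 11, 0, 20), (1, 10, 16, 14),
  (0, 14, 0, 22), (0, 22, 0, 5), (0, 5, 0, 9), (0, 9, 0, 1), (0, 1, 0, 18)]

theorem smallD4_ok : okSmall chevD4 D4.cert 0 10 smallD4 = true := by
  decide +kernel

/-- Steps (small, F4). -/
def smallF4 : List (ℕ × ℕ × ℕ × ℕ) :=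
  [(0, 0, 0, 15), (0, 15, 0, 21), (0, 21, 0, 41), (0, 41, 0, 45), (0, 45, 0, 46), (0, 46, 0, 47),
  (0, 47, 0, 32), (0, 32, 0, 26), (0, 26, 0, 6), (0, 6, 0, 2), (0, 2, 0, 1), (1, 0, 46, 23),
  (0, 23, 0, 42), (0, 42, 0, 30), (0, 30, 0, 43), (0, 43, 0, 31), (0, 31, 0, 25), (0, 25, 0, 24),
  (0, 24, 0, 5), (0, 5, 0, 17), (0, 17, 0, 4), (0, 4, 0, 16), (0, 16, 0, 22), (2, 14, 15, 8),
  (0, 8, 0, 18), (0, 18, 0, 34), (0, 34, 0, 37), (0, 37, 0, 44), (0, 44, 0, 40), (0, 40, 0, 39),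
  (0, 39, 0, 29), (0, 29, 0, 13), (0, 13, 0, 10), (0, 10, 0, 3), (0, 3, 0, 7), (1, 0, 40, 11),
  (0, 11, 0, 33), (0, 33, 0, 27), (0, 27, 0, 35), (0, 35, 0, 38), (0, 38, 0, 28), (0, 28, 0, 36),
  (0, 36, 0, 14), (0, 14, 0, 20), (0, 20, 0, 12), (0, 12, 0, 9), (0, 9, 0, 19)]

theorem smallF4_ok : okSmall chevF4 F4.cert 0 0 smallF4 = true := by
  decide +kernel

/-- Steps (small, E6). -/
def smallE6 : List (ℕ × ℕ × ℕ × ℕ) :=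
  [(0, 0, 0, 1), (0, 1, 0, 16), (0, 16, 0, 30), (0, 30, 0, 61), (0, 61, 0, 67), (0, 67, 0, 71),
  (0, 71, 0, 70), (0, 70, 0, 55), (0, 55, 0, 41), (0, 41, 0, 10), (0, 10, 0, 4), (1, 0, 67, 22),
  (0, 22, 0, 46), (0, 46, 0, 58), (0, 58, 0, 51), (0, 51, 0, 65), (0, 65, 0, 44), (0, 44, 0, 49),
  (0, 49, 0, 25), (0, 25, 0, 13), (0, 13, 0, 20), (0, 20, 0, 6), (0, 6, 0, 27), (2, 15, 16, 5),
  (0, 5, 0, 26), (0, 26, 0, 57), (0, 57, 0, 50), (0, 50, 0, 64), (0, 64, 0, 69), (0, 69, 0, 54),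
  (0, 54, 0, 40), (0, 40, 0, 38), (0, 38, 0, 9), (0, 9, 0, 3), (0, 3, 0, 18), (1, 0, 64, 19),
  (0, 19, 0, 32), (0, 32, 0, 34), (0, 34, 0, 35), (0, 35, 0, 63), (0, 63, 0, 43), (0, 43, 0, 48),
  (0, 48, 0, 60), (0, 60, 0, 15), (0, 15, 0, 29), (0, 29, 0, 24), (0, 24, 0, 12), (2, 56, 55, 66),
  (0, 66, 0, 45), (0, 45, 0, 14), (0, 14, 0, 21), (0, 21, 0, 7), (0, 7, 0, 2), (0, 2, 0, 17),
  (0, 17, 0, 31), (0, 31, 0, 33), (0, 33, 0, 62), (0, 62, 0, 68), (0, 68, 0, 53), (1, 0, 68, 23),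
  (0, 23, 0, 11), (0, 11, 0, 56), (0, 56, 0, 42), (0, 42, 0, 47), (0, 47, 0, 59), (0, 59, 0, 52),
  (0, 52, 0, 39), (0, 39, 0, 37), (0, 37, 0, 36), (0, 36, 0, 8), (0, 8, 0, 28)]

theorem smallE6_ok : okSmall chevE6 E6.cert 0 0 smallE6 = true := by
  decide +kernel

/-- Steps (small, E7). -/
def smallE7 : List (ℕ × ℕ × ℕ × ℕ) :=
  [(0, 3, 0, 8), (0, 8, 0, 34), (0, 34, 0, 54), (0, 54, 0, 57), (0, 57, 0, 100), (0, 100, 0, 110),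
  (0, 110, 0, 120), (0, 120, 0, 115), (0, 115, 0, 122), (0, 122, 0, 117), (0, 117, 0, 91), (0, 91, 0, 71),
  (0, 71, 0, 68), (0, 68, 0, 25), (0, 25, 0, 15), (0, 15, 0, 5), (0, 5, 0, 10), (1, 3, 100, 33),
  (0, 33, 0, 53), (0, 53, 0, 99), (0, 99, 0, 109), (0, 109, 0, 119), (0, 119, 0, 125), (0, 125, 0, 124),
  (0, 124, 0, 123), (0, 123, 0, 118), (0, 118, 0, 92), (0, 92, 0, 72), (0, 72, 0, 26), (0, 26, 0, 16),
  (0, 16, 0, 6), (0, 6, 0, 0), (0, 0, 0, 1), (0, 1, 0, 2), (0, 2, 0, 7), (1, 3, 120, 58),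
  (0, 58, 0, 60), (0, 60, 0, 101), (0, 101, 0, 111), (0, 111, 0, 87), (0, 87, 0, 106), (0, 106, 0, 114),
  (0, 114, 0, 89), (0, 89, 0, 70), (0, 70, 0, 67), (0, 67, 0, 65), (0, 65, 0, 24), (0, 24, 0, 14),
  (0, 14, 0, 38), (0, 38, 0, 19), (0, 19, 0, 11), (0, 11, 0, 36), (0, 36, 0, 55), (1, 3, 125, 95),
  (0, 95, 0, 84), (0, 84, 0, 104), (0, 104, 0, 113), (0, 113, 0, 88), (0, 88, 0, 107), (0, 107, 0, 76),
  (0, 76, 0, 82), (0, 82, 0, 47), (0, 47, 0, 30), (0, 30, 0, 41), (0, 41, 0, 21), (0, 21, 0, 12),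
  (0, 12, 0, 37), (0, 37, 0, 18), (0, 18, 0, 49), (0, 49, 0, 43), (0, 43, 0, 78), (1, 3, 124, 74),
  (0, 74, 0, 80), (0, 80, 0, 97), (0, 97, 0, 86), (0, 86, 0, 69), (0, 69, 0, 66), (0, 66, 0, 64),
  (0, 64, 0, 63), (0, 63, 0, 23), (0, 23, 0, 51), (0, 51, 0, 45), (0, 45, 0, 28), (0, 28, 0, 39),
  (0, 39, 0, 56), (0, 56, 0, 59), (0, 59, 0, 61), (0, 61, 0, 62), (0, 62, 0, 102), (1, 3, 84, 17),
  (0, 17, 0, 48), (0, 48, 0, 94), (0, 94, 0, 83), (0, 83, 0, 103), (0, 103, 0, 112), (0, 112, 0, 121),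
  (0, 121, 0, 116), (0, 116, 0, 90), (0, 90, 0, 108), (0, 108, 0, 77), (0, 77, 0, 31), (0, 31, 0, 42),
  (0, 42, 0, 22), (0, 22, 0, 13), (0, 13, 0, 4), (0, 4, 0, 9), (0, 9, 0, 35), (1, 3, 113, 44),
  (0, 44, 0, 27), (0, 27, 0, 93), (0, 93, 0, 73), (0, 73, 0, 79), (0, 79, 0, 96), (0, 96, 0, 85),
  (0, 85, 0, 105), (0, 105, 0, 75), (0, 75, 0, 81), (0, 81, 0, 98), (0, 98, 0, 32), (0, 32, 0, 52),
  (0, 52, 0, 46), (0, 46, 0, 29), (0, 29, 0, 40), (0, 40, 0, 20), (0, 20, 0, 50)]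

theorem smallE7_ok : okSmall chevE7 E7.cert 0 3 smallE7 = true := by
  decide +kernel

/-- Steps (small, E8). -/
def smallE8 : List (ℕ × ℕ × ℕ × ℕ) :=
  [(0, 0, 0, 15), (0, 15, 0, 21), (0, 21, 0, 36), (0, 36, 0, 78), (0, 78, 0, 105), (0, 105, 0, 169),
  (0, 169, 0, 184), (0, 184, 0, 204), (0, 204, 0, 226), (0, 226, 0, 234), (0, 234, 0, 235), (0, 235, 0, 236),
  (0, 236, 0, 237), (0, 237, 0, 238), (0, 238, 0, 239), (0, 239, 0, 224), (0, 224, 0, 218), (0, 218, 0, 203),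
  (0, 203, 0, 161), (0, 161, 0, 134), (0, 134, 0, 70), (0, 70, 0, 55), (0, 55, 0, 35), (0, 35, 0, 13),
  (0, 13, 0, 5), (0, 5, 0, 4), (0, 4, 0, 3), (0, 3, 0, 2), (0, 2, 0, 1), (1, 0, 235, 110),
  (0, 110, 0, 170), (0, 170, 0, 185), (0, 185, 0, 205), (0, 205, 0, 227), (0, 227, 0, 219), (0, 219, 0, 233),
  (0, 233, 0, 232), (0, 232, 0, 225), (0, 225, 0, 231), (0, 231, 0, 223), (0, 223, 0, 217), (0, 217, 0, 202),
  (0, 202, 0, 160), (0, 160, 0, 133), (0, 133, 0, 129), (0, 129, 0, 69), (0, 69, 0, 54), (0, 54, 0, 34),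
  (0, 34, 0, 12), (0, 12, 0, 20), (0, 20, 0, 6), (0, 6, 0, 7), (0, 7, 0, 14), (0, 14, 0, 8),
  (0, 8, 0, 16), (0, 16, 0, 22), (0, 22, 0, 37), (0, 37, 0, 79), (0, 79, 0, 106), (1, 0, 236, 114),
  (0, 114, 0, 171), (0, 171, 0, 186), (0, 186, 0, 206), (0, 206, 0, 194), (0, 194, 0, 210), (0, 210, 0, 229),
  (0, 229, 0, 221), (0, 221, 0, 215), (0, 215, 0, 200), (0, 200, 0, 213), (0, 213, 0, 199), (0, 199, 0, 158),
  (0, 158, 0, 132), (0, 132, 0, 128), (0, 128, 0, 125), (0, 125, 0, 68), (0, 68, 0, 53), (0, 53, 0, 33),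
  (0, 33, 0, 45), (0, 45, 0, 29), (0, 29, 0, 10), (0, 10, 0, 18), (0, 18, 0, 24), (0, 24, 0, 39),
  (0, 39, 0, 26), (0, 26, 0, 40), (0, 40, 0, 81), (0, 81, 0, 107), (0, 107, 0, 111), (1, 0, 237, 117),
  (0, 117, 0, 172), (0, 172, 0, 187), (0, 187, 0, 152), (0, 152, 0, 178), (0, 178, 0, 191), (0, 191, 0, 209),
  (0, 209, 0, 196), (0, 196, 0, 156), (0, 156, 0, 181), (0, 181, 0, 193), (0, 193, 0, 155), (0, 155, 0, 131),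
  (0, 131, 0, 127), (0, 127, 0, 124), (0, 124, 0, 122), (0, 122, 0, 67), (0, 67, 0, 52), (0, 52, 0, 87),
  (0, 87, 0, 61), (0, 61, 0, 48), (0, 48, 0, 30), (0, 30, 0, 43), (0, 43, 0, 83), (0, 83, 0, 58),
  (0, 58, 0, 46), (0, 46, 0, 84), (0, 84, 0, 108), (0, 108, 0, 112), (0, 112, 0, 115), (1, 0, 238, 119),
  (0, 119, 0, 173), (0, 173, 0, 136), (0, 136, 0, 143), (0, 143, 0, 166), (0, 166, 0, 150), (0, 150, 0, 177),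
  (0, 177, 0, 137), (0, 137, 0, 144), (0, 144, 0, 167), (0, 167, 0, 151), (0, 151, 0, 130), (0, 130, 0, 126),
  (0, 126, 0, 123), (0, 123, 0, 121), (0, 121, 0, 120), (0, 120, 0, 66), (0, 66, 0, 103), (0, 103, 0, 96),
  (0, 96, 0, 73), (0, 73, 0, 89), (0, 89, 0, 62), (0, 62, 0, 102), (0, 102, 0, 95), (0, 95, 0, 72),
  (0, 72, 0, 88), (0, 88, 0, 109), (0, 109, 0, 113), (0, 113, 0, 116), (0, 116, 0, 118), (1, 0, 233, 99),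
  (0, 99, 0, 163), (0, 163, 0, 147), (0, 147, 0, 174), (0, 174, 0, 188), (0, 188, 0, 207), (0, 207, 0, 228),
  (0, 228, 0, 220), (0, 220, 0, 214), (0, 214, 0, 230), (0, 230, 0, 222), (0, 222, 0, 216), (0, 216, 0, 201),
  (0, 201, 0, 159), (0, 159, 0, 183), (0, 183, 0, 140), (0, 140, 0, 76), (0, 76, 0, 92), (0, 92, 0, 65),
  (0, 65, 0, 51), (0, 51, 0, 32), (0, 32, 0, 11), (0, 11, 0, 19), (0, 19, 0, 25), (0, 25, 0, 9),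
  (0, 9, 0, 17), (0, 17, 0, 23), (0, 23, 0, 38), (0, 38, 0, 80), (0, 80, 0, 56), (1, 0, 232, 93),
  (0, 93, 0, 141), (0, 141, 0, 164), (0, 164, 0, 148), (0, 148, 0, 175), (0, 175, 0, 189), (0, 189, 0, 208),
  (0, 208, 0, 195), (0, 195, 0, 211), (0, 211, 0, 197), (0, 197, 0, 212), (0, 212, 0, 198), (0, 198, 0, 157),
  (0, 157, 0, 182), (0, 182, 0, 139), (0, 139, 0, 146), (0, 146, 0, 98), (0, 98, 0, 75), (0, 75, 0, 91),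
  (0, 91, 0, 64), (0, 64, 0, 50), (0, 50, 0, 31), (0, 31, 0, 44), (0, 44, 0, 28), (0, 28, 0, 42),
  (0, 42, 0, 27), (0, 27, 0, 41), (0, 41, 0, 82), (0, 82, 0, 57), (0, 57, 0, 100), (1, 0, 225, 71),
  (0, 71, 0, 162), (0, 162, 0, 135), (0, 135, 0, 142), (0, 142, 0, 165), (0, 165, 0, 149), (0, 149, 0, 176),
  (0, 176, 0, 190), (0, 190, 0, 153), (0, 153, 0, 179), (0, 179, 0, 192), (0, 192, 0, 154), (0, 154, 0, 180),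
  (0, 180, 0, 138), (0, 138, 0, 145), (0, 145, 0, 168), (0, 168, 0, 77), (0, 77, 0, 104), (0, 104, 0, 97),
  (0, 97, 0, 74), (0, 74, 0, 90), (0, 90, 0, 63), (0, 63, 0, 49), (0, 49, 0, 86), (0, 86, 0, 60),
  (0, 60, 0, 47), (0, 47, 0, 85), (0, 85, 0, 59), (0, 59, 0, 101), (0, 101, 0, 94)]

theorem smallE8_ok : okSmall chevE8 E8.cert 0 0 smallE8 = true := by
  decide +kernel

end Cfsg.Lib.ChevTwoGen
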