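import Cfsg.Agent.Known.ChevTwoGen.Basic

/-! # Two generators for Chevalley groups: the two scenarios -/

set_option autoImplicit false

open Cfsg.Lie

namespace Cfsg.Lib.ChevTwoGen

open Cfsg.Lib.Chev

/-- The `m`-th image of a root under the Coxeter element. -/
noncomputable def cxIter (C : Cert) (l m r : ℕ) : ℕ :=
  @Nat.rec (fun _ => ℕ) r (fun _ ih => cx C l ih) m

/-- Certificate for fields with at least three elements. -/
noncomputable def okBig (D : ChevalleyDatum) (C : Cert) (g r0 b m : ℕ)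
    (L : List (ℕ × ℕ × ℕ × ℕ)) : Bool :=
  Nat.blt g D.rank && Nat.blt r0 D.nroots && Nat.blt b D.nroots &&
  Nat.beq (D.cartan g r0).natAbs 1 && Nat.beq (D.cartan g (cx C D.rank r0)).natAbs 1 &&
  Nat.beq (D.cartan g b).natAbs 0 &&
  (Nat.beq (D.cartan g (cxIter C D.rank m b)).natAbs 1 ||
    Nat.beq (D.cartan g (cxIter C D.rank m b)).natAbs 2) &&
  okSteps D C g false L [r0, cxIter C D.rank m b]

/-- Certificate for the field with two elements. -/
noncomputable def okSmall (D : ChevalleyDatum) (C : Cert) (g b : ℕ)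
    (L : List (ℕ × ℕ × ℕ × ℕ)) : Bool :=
  Nat.blt g D.rank && okComm D (D.simple g) b && okComm D (D.neg (D.simple g)) b &&
  okSteps D C g true L [b]

/-- A subring of a finite field containing all squares is everything. -/
theorem subring_eq_top {F : Type*} [Field F] [Finite F] (R : Subring F) (hR : ∀ x : F, x * x ∈ R) :
    R = ⊤ := by
  refine eq_top_iff.2 fun x _ => ?_
  have := Fintype.ofFinite F
  by_cases h2 : (2 : F) = 0
  · haveI : CharP F 2 := CharTwo.of_one_ne_zero_of_two_eq_zero one_ne_zero h2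
    obtain ⟨y, hy⟩ := FiniteField.isSquare_of_char_two (ringChar.eq F 2) x
    exact hy ▸ hR y
  · have hd : x * 2 ∈ R := by
      have := sub_mem (sub_mem (hR (x + 1)) (hR x)) (hR 1)
      convert this using 1
      ring
    have h2m : (2 : F) ∈ R := by rw [← one_add_one_eq_two]; exact add_mem (one_mem R) (one_mem R)
    have hu : (2 : F) ^ (Fintype.card F - 2) * 2 = 1 := by
      have hq : 1 < Fintype.card F := Fintype.one_lt_card
      rw [← pow_succ, show Fintype.card F - 2 + 1 = Fintype.card F - 1 by omega,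
        FiniteField.pow_card_sub_one_eq_one _ h2]
    have := mul_mem hd (pow_mem h2m (Fintype.card F - 2))
    rwa [mul_assoc, mul_comm (2 : F), hu, mul_one] at this

variable {D : ChevalleyDatum} {C : Cert} {F : Type*} [Field F] [Finite F] {S : Struct D C}
  {X : Subgroup (GL D.Idx F)}

theorem hG_conj {g r : ℕ} (hg : g < D.rank) (hr : r < D.nroots) {k : F} (hk : k ≠ 0) (u : F) :
    S.ok.hG (D.simple g) k * S.ok.xG r u * (S.ok.hG (D.simple g) k)⁻¹ =
      S.ok.xG r (k ^ D.cartan g r * u) := by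
  rw [S.ok.hG_mul_xG_simple hg hr hk, mul_inv_cancel_right]

theorem full_of_one {g r : ℕ} (hg : g < D.rank) (hr : r < D.nroots) {k : Fˣ}
    (hk : ∀ x : Fˣ, x ∈ Subgroup.zpowers k) (he : (D.cartan g r).natAbs = 1 ∨ (D.cartan g r).natAbs = 2)
    (ht : S.ok.hG (D.simple g) (k : F) ∈ X) {c : F} (hc : c ≠ 0) (hm : S.ok.xG r c ∈ X) :
    Full S X r := by
  let A : AddSubgroup F :=
    { carrier := {u | S.ok.xG r (u * c) ∈ X}
      add_mem' := fun {u v} hu hv => by
        show S.ok.xG r ((u + v) * c) ∈ X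
        rw [add_mul, ← S.ok.xG_mul]; exact mul_mem hu hv
      zero_mem' := by show S.ok.xG r (0 * c) ∈ X; rw [zero_mul, S.ok.xG_zero]; exact one_mem X
      neg_mem' := fun {u} hu => by
        show S.ok.xG r (-u * c) ∈ X
        rw [neg_mul, ← S.ok.xG_inv]; exact inv_mem hu }
  set w : F := (k : F) ^ D.cartan g r with hw
  have hpow : ∀ n : ℕ, S.ok.xG r (w ^ n * c) ∈ X := by
    intro n
    induction n with
    | zero => simpa using hm
    | succ n ih =>
      have := mul_mem (mul_mem ht ih) (inv_mem ht)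
      rwa [hG_conj (S := S) hg hr k.ne_zero, ← mul_assoc, ← pow_succ'] at this
  have hsub : ∀ x ∈ Subring.closure ({w} : Set F), x ∈ A := by
    intro x hx
    rw [Subring.mem_closure_iff] at hx
    refine (AddSubgroup.closure_le A).2 ?_ hx
    intro y hy
    obtain ⟨n, rfl⟩ := Submonoid.mem_closure_singleton.1 hy
    exact hpow n
  have htop : Subring.closure ({w} : Set F) = ⊤ := by
    refine subring_eq_top _ fun x => ?_
    rcases eq_or_ne x 0 with rfl | hx
    · simp
    obtain ⟨i, hi⟩ : Units.mk0 (x * x) (mul_ne_zero hx hx) ∈ Subgroup.zpowers (k ^ D.cartan g r) := by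
      obtain ⟨j, hj⟩ := hk (Units.mk0 x hx)
      have hxx : Units.mk0 (x * x) (mul_ne_zero hx hx) = k ^ (2 * j) := by
        have e : Units.mk0 (x * x) (mul_ne_zero hx hx) = Units.mk0 x hx * Units.mk0 x hx := Units.ext rfl
        rw [e, ← hj]
        simp only [← zpow_add]
        congr 1
        omega
      rw [hxx]
      rcases Int.natAbs_eq (D.cartan g r) with e | e <;> rcases he with he | he <;> rw [e, he]
      · exact ⟨2 * j, by simp⟩
      · exact ⟨j, by simp only [Nat.cast_ofNat, ← zpow_mul]⟩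
      · exact ⟨-(2 * j), by simp⟩
      · exact ⟨-j, by simp only [Nat.cast_ofNat, ← zpow_mul, neg_mul_neg]⟩
    obtain ⟨n, hn⟩ := (mem_powers_iff_mem_zpowers (x := k ^ D.cartan g r)).2 ⟨i, hi⟩
    have := congrArg (fun u : Fˣ => (u : F)) hn
    simp only [Units.val_pow_eq_pow_val, Units.val_zpow_eq_zpow_val, Units.val_mk0] at this
    rw [← this]
    exact pow_mem (Subring.subset_closure (Set.mem_singleton w) : w ∈ Subring.closure {w}) n
  intro t
  have : S.ok.xG r (t / c * c) ∈ X := hsub (t / c) (htop ▸ Subring.mem_top _)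
  rwa [div_mul_cancel₀ _ hc] at this

theorem cxIter_mem (hn : cN S F (List.range D.rank) ∈ X) {b : ℕ} (hb : b < D.nroots)
    (h : S.ok.xG b (1 : F) ∈ X) :
    ∀ m, cxIter C D.rank m b < D.nroots ∧
      ∃ c : F, c ≠ 0 ∧ S.ok.xG (cxIter C D.rank m b) c ∈ X := by
  intro m
  induction m with
  | zero => exact ⟨hb, 1, one_ne_zero, h⟩
  | succ m ih =>
    obtain ⟨hlt, c, hc, hm⟩ := ih
    obtain ⟨hlt', η, hη, e⟩ := cx_conj (F := F) S hlt
    refine ⟨hlt', η * c, mul_ne_zero (fun h => by simp [h] at hη) hc, ?_⟩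
    show S.ok.xG (cx C D.rank (cxIter C D.rank m b)) (η * c) ∈ X
    rw [← e]
    exact mul_mem (mul_mem hn hm) (inv_mem hn)

theorem exists_pair {a b : GL D.Idx F} (ha : a ∈ D.group F) (hb : b ∈ D.group F)
    (h : D.group F ≤ Subgroup.closure {a, b}) :
    ∃ a b : ↥(D.group F), Subgroup.closure ({a, b} : Set ↥(D.group F)) = ⊤ := by
  refine ⟨⟨a, ha⟩, ⟨b, hb⟩, ?_⟩
  apply Subgroup.map_injective (D.group F).subtype_injective
  rw [MonoidHom.map_closure, ← MonoidHom.range_eq_map, Subgroup.range_subtype, Set.image_pair]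
  exact le_antisymm ((Subgroup.closure_le _).2 (by
    rintro x (rfl | rfl)
    exacts [ha, hb])) h

theorem cN_mem_group (S : Struct D C) : cN S F (List.range D.rank) ∈ D.group F :=
  S.mono_le_group (cN_mem_monomial S _ fun _ h => List.mem_range.1 h)

theorem two_gen_big (S : Struct D C) {g r0 b m : ℕ} {L : List (ℕ × ℕ × ℕ × ℕ)}
    (h : okBig D C g r0 b m L = true) (h3 : ∃ x : F, x ≠ 0 ∧ x ≠ 1) :
    ∃ a b : ↥(D.group F), Subgroup.closure ({a, b} : Set ↥(D.group F)) = ⊤ := by
  have := Fintype.ofFinite F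
  simp only [okBig, Bool.and_eq_true, Bool.or_eq_true, blt_true] at h
  obtain ⟨⟨⟨⟨⟨⟨⟨hg, hr0⟩, hb⟩, he0⟩, hea⟩, heb⟩, he1⟩, hL⟩ := h
  have he0' := Nat.eq_of_beq_eq_true he0
  have hea' := Nat.eq_of_beq_eq_true hea
  have heb' : D.cartan g b = 0 := Int.natAbs_eq_zero.1 (Nat.eq_of_beq_eq_true heb)
  have he1' : (D.cartan g (cxIter C D.rank m b)).natAbs = 1 ∨
      (D.cartan g (cxIter C D.rank m b)).natAbs = 2 := he1.imp Nat.eq_of_beq_eq_true Nat.eq_of_beq_eq_true
  obtain ⟨k, hk⟩ := IsCyclic.exists_generator (α := Fˣ)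
  have hk1 : (k : F) ≠ 1 := by
    intro h1
    obtain ⟨x, hx0, hx1⟩ := h3
    obtain ⟨i, hi⟩ := hk (Units.mk0 x hx0)
    rw [show k = 1 from Units.ext h1] at hi
    exact hx1 (by simpa using (congrArg (fun u : Fˣ => (u : F)) hi).symm)
  have hne : ∀ e : ℤ, e.natAbs = 1 → (k : F) ^ e ≠ 1 := by
    intro e he
    rcases Int.natAbs_eq e with h | h <;> rw [h, he] <;> simp [hk1]
  set t := S.ok.hG (D.simple g) (k : F) with ht
  set n := cN S F (List.range D.rank) with hn
  obtain ⟨hA, η, hη, econj⟩ := cx_conj (F := F) S hr0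
  set A := cx C D.rank r0 with hAdef
  have hcommB : Commute t (S.ok.xG b (1 : F)) := by
    have e := hG_conj (S := S) hg hb k.ne_zero (1 : F)
    rw [heb', zpow_zero, one_mul, mul_inv_eq_iff_eq_mul] at e
    exact e
  refine exists_pair (a := t * S.ok.xG b 1) (b := S.ok.xG A 1 * n)
    (mul_mem (S.ok.hG_mem_group _ _) (S.ok.xG_mem_group _ _))
    (mul_mem (S.ok.xG_mem_group _ _) (cN_mem_group S)) ?_
  set X := Subgroup.closure ({t * S.ok.xG b 1, S.ok.xG A 1 * n} : Set (GL D.Idx F))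
  have haX : t * S.ok.xG b 1 ∈ X := Subgroup.subset_closure (Or.inl rfl)
  have hbX : S.ok.xG A 1 * n ∈ X := Subgroup.subset_closure (Or.inr rfl)
  have htq : t ^ (Fintype.card F - 1) = 1 := by
    rw [ht, S.ok.hG_simple_eq_tG ⟨g, hg⟩, ← map_pow, ← Pi.mulSingle_pow]
    rw [show k ^ (Fintype.card F - 1) = 1 from Units.ext (by
      rw [Units.val_pow_eq_pow_val, FiniteField.pow_card_sub_one_eq_one _ k.ne_zero, Units.val_one]),
      Pi.mulSingle_one, map_one]
  have hxb : S.ok.xG b (1 : F) ∈ X := by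
    have h := pow_mem haX (Fintype.card F - 1)
    rw [hcommB.mul_pow, htq, one_mul] at h
    have hp : ∀ i : ℕ, S.ok.xG b (1 : F) ^ i = S.ok.xG b (i : F) := by
      intro i
      induction i with
      | zero => simp
      | succ i ih => rw [pow_succ, ih, S.ok.xG_mul, Nat.cast_succ]
    rw [hp, Nat.cast_sub (Fintype.card_pos), FiniteField.cast_card_eq_zero, zero_sub, Nat.cast_one] at h
    simpa [S.ok.xG_inv] using inv_mem h
  have htX : t ∈ X := (mul_mem_cancel_right hxb).1 haX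
  -- a root element of `r0`
  have hdiag : ∀ z ∈ D.diagonalSubgroup F, Commute t z := by
    intro z hz
    rw [S.ok.diagonalSubgroup_eq] at hz
    obtain ⟨c, rfl⟩ := hz
    rw [ht, S.ok.hG_simple_eq_tG ⟨g, hg⟩]
    exact (Commute.all _ _).map _
  set u := n⁻¹ * t * n with hu
  have hud : u ∈ D.diagonalSubgroup F := by
    have h1 := inv_mem (S.ok.monomial_le_normalizer (cN_mem_monomial S (List.range D.rank)
      fun _ h => List.mem_range.1 h) : n ∈ Subgroup.normalizer (D.diagonalSubgroup F : Set (GL D.Idx F)))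
    have htd : t ∈ D.diagonalSubgroup F := by
      rw [S.ok.diagonalSubgroup_eq]
      exact ⟨_, (S.ok.hG_simple_eq_tG ⟨g, hg⟩ k).symm⟩
    have := (Subgroup.mem_normalizer_iff.1 h1 t).1 htd
    rwa [inv_inv] at this
  have e0 := hG_conj (S := S) hg hr0 k.ne_zero
  have e1 := hG_conj (S := S) hg hA k.ne_zero
  set eA : F := (k : F) ^ D.cartan g A with heA
  set c : F := η * (1 - eA⁻¹) with hcdef
  have hbconj : (S.ok.xG A 1 * n)⁻¹ * t * (S.ok.xG A 1 * n) = u * S.ok.xG r0 (η * (eA⁻¹ * (-1) + 1)) := by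
    have e2 : S.ok.xG A (-1) * t * S.ok.xG A (1 : F) = t * S.ok.xG A (eA⁻¹ * (-1) + 1) := by
      have := e1 (eA⁻¹ * (-1))
      rw [← mul_assoc, mul_inv_cancel₀ (zpow_ne_zero _ k.ne_zero), one_mul, mul_inv_eq_iff_eq_mul] at this
      rw [← this, mul_assoc, S.ok.xG_mul]
    have e3 : n⁻¹ * S.ok.xG A (eA⁻¹ * (-1) + 1) * n = S.ok.xG r0 (η * (eA⁻¹ * (-1) + 1)) := by
      have := econj (η * (eA⁻¹ * (-1) + 1))
      rw [← mul_assoc η η, hη, one_mul] at this
      rw [← this, ← hn]
      group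
    rw [mul_inv_rev, S.ok.xG_inv,
      show n⁻¹ * S.ok.xG A (-1) * t * (S.ok.xG A 1 * n) =
        n⁻¹ * (S.ok.xG A (-1) * t * S.ok.xG A 1) * n by group, e2,
      show n⁻¹ * (t * S.ok.xG A (eA⁻¹ * -1 + 1)) * n =
        n⁻¹ * t * n * (n⁻¹ * S.ok.xG A (eA⁻¹ * -1 + 1) * n) by group, e3]
  set d : F := η * (eA⁻¹ * (-1) + 1) with hd
  have hne0 := hne _ he0'
  have hneA := hne _ hea'
  have hη0 : η ≠ 0 := fun h => by simp [h] at hη
  have hd0 : d ≠ 0 := by
    refine mul_ne_zero hη0 fun h => hneA ?_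
    show eA = 1
    have : eA⁻¹ = 1 := by linear_combination -h
    exact inv_eq_one.1 this
  have hr0full : Full S X r0 := by
    have hz := mul_mem (mul_mem (inv_mem hbX) htX) hbX
    rw [hbconj] at hz
    have h := mul_mem (mul_mem (mul_mem htX hz) (inv_mem htX)) (inv_mem hz)
    have hcu : Commute t u := hdiag u hud
    have e2 : t * (u * S.ok.xG r0 d) * t⁻¹ * (u * S.ok.xG r0 d)⁻¹ =
        u * (t * S.ok.xG r0 d * t⁻¹ * (S.ok.xG r0 d)⁻¹) * u⁻¹ := by
      rw [← mul_assoc t u, hcu.eq]; group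
    rw [e2, e0, S.ok.xG_inv, S.ok.xG_mul] at h
    set y : F := (k : F) ^ D.cartan g r0 * d + -d with hy
    have e3 : u * S.ok.xG r0 y * u⁻¹ = S.ok.xG r0 (eA * y) := by
      have h1 := econj (eA * y)
      have h2 := econj y
      have h3 := e1 (η * y)
      rw [show S.ok.xG r0 (eA * y) = n⁻¹ * (n * S.ok.xG r0 (eA * y) * n⁻¹) * n by group, h1,
        show η * (eA * y) = eA * (η * y) by ring, ← h3, ← h2, hu, ← hn, ← ht]
      group
    rw [e3] at h
    refine full_of_one hg hr0 hk (Or.inl he0') htX ?_ h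
    refine mul_ne_zero (zpow_ne_zero _ k.ne_zero) ?_
    rw [hy, ← neg_one_mul, ← add_mul]
    exact mul_ne_zero (fun h => hne0 (by linear_combination h)) hd0
  have hnX : n ∈ X := by
    obtain ⟨-, η', hη', e'⟩ := cx_conj (F := F) S hr0
    have h1 : n * S.ok.xG r0 (η' * 1) * n⁻¹ = S.ok.xG A (1 : F) := by
      rw [e', ← mul_assoc, hη', one_mul]
    rw [← h1, inv_mul_cancel_right] at hbX
    exact (mul_mem_cancel_right (hr0full _)).1 hbX
  obtain ⟨hlt, c', hc', hm'⟩ := cxIter_mem hnX hb hxb m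
  have hr1full : Full S X (cxIter C D.rank m b) := full_of_one hg hlt hk he1' htX hc' hm'
  exact okSteps_sound hnX g false (by simp) L _
    (List.forall_mem_cons.2 ⟨hr0full, List.forall_mem_cons.2 ⟨hr1full, by simp⟩⟩) hL

theorem two_gen_small (S : Struct D C) {g b : ℕ} {L : List (ℕ × ℕ × ℕ × ℕ)}
    (h : okSmall D C g b L = true) (h2 : ∀ u : F, u = 0 ∨ u = 1) :
    ∃ a b : ↥(D.group F), Subgroup.closure ({a, b} : Set ↥(D.group F)) = ⊤ := by
  simp only [okSmall, Bool.and_eq_true, blt_true] at h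
  obtain ⟨⟨⟨hg, hcp⟩, hcm⟩, hL⟩ := h
  have hm1 : (-1 : F) = 1 := (h2 (-1)).resolve_left (by simp)
  have hs := S.ok.sr_lt hg
  have hsimp : C.sr g = D.simple g := S.ok.sr_eq hg
  set p := S.ok.xG (D.simple g) (1 : F) with hp
  set q := S.ok.xG (D.neg (D.simple g)) (1 : F) with hq
  set x := S.ok.xG b (1 : F) with hx
  have hpp : p * p = 1 := by
    rw [hp, S.ok.xG_mul, show (1 : F) + 1 = 0 by rw [← add_neg_cancel (1 : F), hm1]]
    exact S.ok.xG_zero _
  have hqq : q * q = 1 := by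
    rw [hq, S.ok.xG_mul, show (1 : F) + 1 = 0 by rw [← add_neg_cancel (1 : F), hm1]]
    exact S.ok.xG_zero _
  have hxx : x * x = 1 := by
    rw [hx, S.ok.xG_mul, show (1 : F) + 1 = 0 by rw [← add_neg_cancel (1 : F), hm1]]
    exact S.ok.xG_zero _
  have hn : S.ok.nG (D.simple g) (1 : F) = p * q * p := by
    rw [Ok.nG, inv_one, hm1]
  have hpqp : p * q * p * p * (p * q * p)⁻¹ = q := by
    have e := S.ok.conj_nG_xG (F := F) hg hs 1
    rw [(S.ok.refl_simple hg).1, (S.ok.refl_simple hg).2.1, hsimp, S.ok.neg_eq (hsimp ▸ hs)] at e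
    rw [← hn, e, hq]
    congr 1
    simp [hm1]
  have hpi : p⁻¹ = p := inv_eq_of_mul_eq_one_right hpp
  have hqi : q⁻¹ = q := inv_eq_of_mul_eq_one_right hqq
  have hy3 : (p * q) ^ 3 = 1 := by
    have : p * q * p = q * p * q := by
      have := mul_inv_eq_iff_eq_mul.1 hpqp
      rw [mul_assoc (p * q), hpp, mul_one] at this
      calc p * q * p = q * (q * (p * q * p)) := by rw [← mul_assoc q q, hqq, one_mul]
        _ = q * (p * q) := by rw [← this]
        _ = q * p * q := (mul_assoc _ _ _).symm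
    calc (p * q) ^ 3 = p * q * p * (q * p * q) := by simp [pow_succ, mul_assoc]
      _ = p * q * (p * p) * q * p := by rw [← this]; simp [mul_assoc]
      _ = 1 := by rw [hpp, mul_one, mul_assoc p q, hqq, mul_one, hpp]
  have hxc : Commute (p * q) x :=
    (comm_of_okComm (S := S) hcp _ _).mul_left (comm_of_okComm (S := S) hcm _ _)
  refine exists_pair (a := p * q * x) (b := cN S F (List.range D.rank))
    (mul_mem (mul_mem (S.ok.xG_mem_group _ _) (S.ok.xG_mem_group _ _)) (S.ok.xG_mem_group _ _))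
    (cN_mem_group S) ?_
  set X := Subgroup.closure ({p * q * x, cN S F (List.range D.rank)} : Set (GL D.Idx F))
  have haX : p * q * x ∈ X := Subgroup.subset_closure (Or.inl rfl)
  have hxX : x ∈ X := by
    have h := pow_mem haX 3
    rwa [hxc.mul_pow, hy3, one_mul, pow_succ, pow_two, hxx, one_mul] at h
  have hyX : p * q ∈ X := (mul_mem_cancel_right hxX).1 haX
  refine okSteps_sound (Subgroup.subset_closure (Or.inr rfl)) g true (fun _ => ⟨h2, hyX⟩) L _ ?_ hL
  intro r hr u
  rw [List.mem_singleton.1 hr]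
  rcases h2 u with rfl | rfl
  · rw [S.ok.xG_zero]; exact one_mem X
  · exact hxX

end Cfsg.Lib.ChevTwoGen
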